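import Groth.Agent.Lib.WeilK17.Principal
import Groth.Agent.Lib.K0Sub.Coh
import Groth.Agent.Lib.OX.CohClass

/-!
# Weil divisor classes in the first graded piece of the coniveau filtration
-/

set_option autoImplicit false
set_option linter.style.haveILetI false
set_option linter.unusedVariables false
set_option linter.unusedSectionVars false

universe u

open CategoryTheory CategoryTheory.Limits AlgebraicGeometry TopologicalSpace

noncomputable section

namespace GrothLib.WeilK17

open GrothLib GrothLib.PBDeg GrothLib.PBDeg.KPhi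

variable {X : Scheme.{u}} [IsNoetherian X] [IsIntegral X]

/-- The property of being coherent. -/
abbrev cohQ (X : Scheme.{u}) : ObjectProperty X.Modules := fun M => Coh.IsCoh M

/-- The class of the structure sheaf of a closure. -/
abbrev cls (x : X) : SGA6.Kcoh X := KZero.clSub (cohQ X) (Cyc.closureStructureSheaf x)

/-- The classes supported in codimension at least two. -/
def C2 (X : Scheme.{u}) : AddSubgroup (SGA6.Kcoh X) :=
  AddSubgroup.closure {c : SGA6.Kcoh X | ∃ F : X.Modules, Coh.IsCoh F ∧
    (∀ x ∈ CohB1.support F, (2 : WithBot ℕ∞) ≤ ringKrullDim (X.presheaf.stalk x)) ∧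
    c = KZero.clSub (fun M : X.Modules => Coh.IsCoh M) F}

/-- The length of a stalk. -/
def len (x : X) (F : X.Modules) : ℤ := ((Module.length (X.presheaf.stalk x) (stk F x)).toNat : ℤ)

theorem one_ne_generic {x : X} (hx : One x) : x ≠ genericPoint X := by
  rintro rfl
  rw [One, ringKrullDim_stalk_eq_coheight] at hx
  have : Order.coheight (genericPoint X) = 0 :=
    Order.coheight_eq_zero.2 fun y _ => genericPoint_specializes y
  rw [this] at hx
  exact absurd hx (by simp)

theorem eq_of_not_mem_generic {F : X.Modules} (hF : genericPoint X ∉ CohB1.support F) {x y : X} (hx : One x)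
    (hy : y ∈ CohB1.support F) (h : y ⤳ x) : y = x :=
  by_contra fun hne => hF (eq_generic hx h hne ▸ hy)

theorem finite_one {F : X.Modules} (hF : Coh.IsCoh F) (hξ : genericPoint X ∉ CohB1.support F) :
    {x | x ∈ CohB1.support F ∧ One x}.Finite := by
  have hT : IsClosed (CohB1.support F) := QCoh.isClosed_support_of_isCoh hF
  haveI : QuasiSober (CohB1.support F) := hT.isClosedEmbedding_subtypeVal.quasiSober
  haveI : Finite (irreducibleComponents (CohB1.support F)) :=
    (NoetherianSpace.finite_irreducibleComponents (α := CohB1.support F)).to_subtype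
  refine (Set.finite_range fun Z : irreducibleComponents (CohB1.support F) =>
    ((Z.2.1.genericPoint : CohB1.support F) : X)).subset ?_
  rintro z ⟨hzs, hz⟩
  refine ⟨⟨irreducibleComponent ⟨z, hzs⟩, irreducibleComponent_mem_irreducibleComponents _⟩, ?_⟩
  have hg := (isIrreducible_irreducibleComponent (x := (⟨z, hzs⟩ : CohB1.support F))).isGenericPoint_genericPoint
    isClosed_irreducibleComponent
  exact eq_of_not_mem_generic hξ hz (Subtype.coe_prop _)
    ((hg.specializes mem_irreducibleComponent).map continuous_subtype_val)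

theorem len_closure {x y : X} (hy : One y) (hx : x ≠ genericPoint X) [Decidable (y = x)] :
    len y (Cyc.closureStructureSheaf x) = if y = x then 1 else 0 := by
  obtain ⟨hc, hs, ⟨e⟩⟩ := K0Sub.closureSheaf_data x
  split_ifs with h
  · subst h
    have : IsSimpleModule (X.presheaf.stalk y) (IsLocalRing.ResidueField (X.presheaf.stalk y)) :=
      isSimpleModule_iff_quot_maximal.mpr ⟨_, IsLocalRing.maximalIdeal.isMaximal _, ⟨LinearEquiv.refl _ _⟩⟩
    show ((Module.length _ _).toNat : ℤ) = 1
    rw [show Module.length (X.presheaf.stalk y) (stk (Cyc.closureStructureSheaf y) y) = 1 from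
      e.length_eq.trans (Module.length_eq_one _ _)]
    rfl
  · have hn : y ∉ CohB1.support (Cyc.closureStructureSheaf x) := fun hm =>
      hx (eq_generic hy (specializes_iff_mem_closure.2 (hs hm)) (Ne.symm h))
    haveI : Subsingleton (stk (Cyc.closureStructureSheaf x) y) := QCoh.stalk_subsingleton_of_notMem hn
    show ((Module.length _ _).toNat : ℤ) = 0
    rw [Module.length_eq_zero]
    rfl

theorem two_le {x y : X} (hx : x ≠ genericPoint X) (h1 : ¬ One x) (h : x ⤳ y) :
    (2 : WithBot ℕ∞) ≤ ringKrullDim (X.presheaf.stalk y) := by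
  rw [ringKrullDim_stalk_eq_coheight]
  have h0 : Order.coheight x ≠ 0 := fun h0 =>
    hx (eq_generic_of_specializes ((Order.coheight_eq_zero.1 h0) (genericPoint_specializes x)))
  have h1' : Order.coheight x ≠ 1 := fun e => h1 (by rw [One, ringKrullDim_stalk_eq_coheight, e]; rfl)
  have h2 : (2 : ℕ∞) ≤ Order.coheight x := by
    rcases eq_or_ne (Order.coheight x) ⊤ with e | e
    · rw [e]; exact le_top
    · lift Order.coheight x to ℕ using e with n hn
      have : n ≠ 0 := fun e => h0 (by rw [e]; rfl)
      have : n ≠ 1 := fun e => h1' (by rw [e]; rfl)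
      exact_mod_cast (show 2 ≤ n by omega)
  exact WithBot.coe_le_coe.2 (h2.trans (Order.coheight_anti h))

open Classical in
/-- Torsion classes modulo codimension two. -/
theorem clSub_sub_mem (F : X.Modules) (hF : Coh.IsCoh F) (hξ : genericPoint X ∉ CohB1.support F)
    (S : Finset X) (hS : ∀ x, x ∈ CohB1.support F → One x → x ∈ S) (hS1 : ∀ x ∈ S, One x) :
    KZero.clSub (cohQ X) F - ∑ x ∈ S, len x F • cls x ∈ C2 X := by
  let T := CohB1.support F
  let Q : X.Modules → Prop := fun M =>
    CohB1.support M ⊆ T ∧ KZero.clSub (cohQ X) M - ∑ x ∈ S, len x M • cls x ∈ C2 X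
  suffices Q F from this.2
  refine QCoh.devissage Q ?_ ?_ ?_ T ?_ F hF (Set.Subset.refl _)
  · rintro M N ⟨e⟩ ⟨hs, hm⟩
    refine ⟨(QCoh.support_eq_of_iso e).symm.le.trans hs, ?_⟩
    rw [← K0Sub.clSub_coh_iso e]
    have hl : ∀ x, len x N = len x M := fun x => by
      unfold len
      rw [← (((OX.stalk x).mapIso e).toLinearEquiv).length_eq]
    simp only [hl]
    exact hm
  · intro M hM
    refine ⟨by rw [K0Sub.support_eq_empty_of_isZero hM]; exact Set.empty_subset _, ?_⟩
    rw [K0Sub.clSub_isZero hM, zero_sub, neg_mem_iff]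
    refine sum_mem fun x _ => ?_
    haveI : Subsingleton (stk M x) := ModuleCat.subsingleton_of_isZero ((OX.stalk x).map_isZero hM)
    unfold len
    rw [Module.length_eq_zero]
    simp
  · intro T' hT' c₁ c₂ c₃
    haveI := hT'.mono_f
    haveI := hT'.epi_g
    have s1 : CohB1.support T'.X₁ ⊆ CohB1.support T'.X₂ := QCoh.support_subset_of_mono T'.f
    have s3 : CohB1.support T'.X₃ ⊆ CohB1.support T'.X₂ := QCoh.support_subset_of_epi T'.g
    have s2 : CohB1.support T'.X₂ ⊆ CohB1.support T'.X₁ ∪ CohB1.support T'.X₃ := fun x hx => by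
      by_contra hn
      rw [Set.mem_union, not_or] at hn
      haveI : Subsingleton (stk T'.X₁ x) := QCoh.stalk_subsingleton_of_notMem hn.1
      haveI : Subsingleton (stk T'.X₃ x) := QCoh.stalk_subsingleton_of_notMem hn.2
      haveI : Nontrivial (stk T'.X₂ x) := CycBasic.nontrivial_iff_mem_support.2 hx
      obtain ⟨a, ha⟩ := exists_ne (0 : stk T'.X₂ x)
      obtain ⟨b, rfl⟩ := (stL_exact hT' x a).1 (Subsingleton.elim _ _)
      exact ha (by rw [Subsingleton.elim b 0, map_zero])
    have key : CohB1.support T'.X₂ ⊆ T → KZero.clSub (cohQ X) T'.X₂ - ∑ x ∈ S, len x T'.X₂ • cls x =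
        (KZero.clSub (cohQ X) T'.X₁ - ∑ x ∈ S, len x T'.X₁ • cls x) +
          (KZero.clSub (cohQ X) T'.X₃ - ∑ x ∈ S, len x T'.X₃ • cls x) := by
      intro hs
      have hl : ∀ x ∈ S, len x T'.X₂ = len x T'.X₁ + len x T'.X₃ := fun x hx => by
        have hfin : ∀ {M : X.Modules}, Coh.IsCoh M → CohB1.support M ⊆ T →
            Module.length (X.presheaf.stalk x) (stk M x) ≠ ⊤ := fun hM hMT =>
          (CycBasic.length_lt_top_of_maximal hM fun y hy h =>
            eq_of_not_mem_generic hξ (hS1 x hx) (hMT hy) h).ne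
        unfold len
        rw [Module.length_eq_add_of_exact _ _ (stL_injective T'.f x) (stL_surjective T'.g x) (stL_exact hT' x),
          ENat.toNat_add (hfin c₁ (s1.trans hs)) (hfin c₃ (s3.trans hs)), Nat.cast_add]
      rw [K0Sub.clSub_add (P := cohQ X) hT' c₁ c₂ c₃, Finset.sum_congr rfl fun x hx => by
        rw [hl x hx, add_smul], Finset.sum_add_distrib]
      abel
    refine ⟨fun a b => ⟨s3.trans b.1, ?_⟩, fun a c => ?_, fun b c => ⟨s1.trans b.1, ?_⟩⟩
    · rw [eq_sub_of_add_eq' (key b.1).symm]; exact sub_mem b.2 a.2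
    · have hs := s2.trans (Set.union_subset a.1 c.1)
      exact ⟨hs, by rw [key hs]; exact add_mem a.2 c.2⟩
    · rw [eq_sub_of_add_eq (key b.1).symm]; exact sub_mem b.2 c.2
  · intro Z i _ _ hiT
    set z := i (genericPoint Z)
    obtain ⟨hc, hs, hst⟩ := K0Sub.closureSheaf_data z
    have hr := QCoh.closure_singleton_eq_range i
    have hzT : z ∈ T := hiT ⟨genericPoint Z, rfl⟩
    have hzξ : z ≠ genericPoint X := fun e => hξ (e ▸ hzT)
    refine ⟨_, hc, hr ▸ hs, hst, (hs.trans hr.le).trans hiT, ?_⟩
    rw [Finset.sum_congr rfl fun x hx => by rw [len_closure (hS1 x hx) hzξ, ite_smul, one_smul, zero_smul],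
      Finset.sum_ite_eq']
    by_cases h1 : One z
    · rw [if_pos (hS z hzT h1), sub_self]
      exact zero_mem _
    · rw [if_neg fun h => h1 (hS1 z h), sub_zero]
      exact AddSubgroup.subset_closure
        ⟨_, hc, fun y hy => two_le hzξ h1 (specializes_iff_mem_closure.2 (hs hy)), rfl⟩

open Classical in
theorem mem_C2_iff (D : X →₀ ℤ) (hD : ∀ x ∈ D.support, One x) :
    (D.sum fun x n => n • cls x) ∈ C2 X ↔
      ∃ f : X.residueField (genericPoint X), f ≠ 0 ∧ ∀ x, One x →
        D x = Cyc.ordAt x (genericPoint X) (genericPoint_specializes x) f := by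
  constructor
  · intro h
    obtain ⟨Φ, hΦ⟩ := exists_hom (X := X)
    have htor : ∀ x ∈ D.support, Subsingleton (stk (Cyc.closureStructureSheaf x) (genericPoint X)) := by
      intro x hx
      refine QCoh.stalk_subsingleton_of_notMem fun hm => one_ne_generic (hD x hx) ?_
      exact eq_generic_of_specializes (specializes_iff_mem_closure.2 ((K0Sub.closureSheaf_data x).2.1 hm))
    have hker : C2 X ≤ Φ.ker := by
      refine (AddSubgroup.closure_le _).2 ?_
      rintro c ⟨F, hF, hs, rfl⟩
      have hn : ∀ y, ¬ (2 : WithBot ℕ∞) ≤ ringKrullDim (X.presheaf.stalk y) → Subsingleton (stk F y) :=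
        fun y hy => QCoh.stalk_subsingleton_of_notMem fun hm => hy (hs y hm)
      have hξ : Subsingleton (stk F (genericPoint X)) := hn _ (by
        rw [ringKrullDim_stalk_eq_coheight,
          Order.coheight_eq_zero.2 fun y _ => genericPoint_specializes y]
        decide)
      rw [SetLike.mem_coe, AddMonoidHom.mem_ker, hΦ F hF hξ, QuotientAddGroup.eq_zero_iff]
      refine ⟨1, one_ne_zero, fun x hx => ?_⟩
      haveI : Subsingleton (stk F x) := hn x (by rw [hx]; decide)
      beta_reduce
      rw [← ordI_eq_ordAt hx (f := (1 : X.residueField (pt x).val)) one_ne_zero, Lat.ordI_one (cx hx),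
        Module.length_eq_zero]
      rfl
    have h0 : Φ (D.sum fun x n => n • cls x) = 0 := hker h
    have hsum : Φ (D.sum fun x n => n • cls x) =
        QuotientAddGroup.mk (∑ x ∈ D.support, D x • fun y => len y (Cyc.closureStructureSheaf x)) := by
      rw [Finsupp.sum, map_sum, QuotientAddGroup.mk_sum]
      refine Finset.sum_congr rfl fun x hx => ?_
      rw [map_zsmul, hΦ _ (K0Sub.closureSheaf_data x).1 (htor x hx)]
      rfl
    rw [hsum, QuotientAddGroup.eq_zero_iff] at h0
    obtain ⟨f, hf, hff⟩ := h0
    refine ⟨f, hf, fun y hy => ?_⟩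
    rw [← hff y hy, Finset.sum_apply, Finset.sum_congr rfl fun x hx => by
      rw [Pi.smul_apply, len_closure hy (one_ne_generic (hD x hx)), smul_eq_mul, mul_ite, mul_one, mul_zero],
      Finset.sum_ite_eq]
    split_ifs with h1
    · rfl
    · exact Finsupp.notMem_support_iff.1 h1
  · rintro ⟨f, hf, hff⟩
    obtain ⟨J, a, b, hJ, ha, hb, ta, tb, hlen⟩ := exists_pair hf
    have hO : Coh.IsCoh (Coh.structureModule X) := HomSh.isCoh_structureModule X
    have hca := QCoh.isCoh_cokernel a hJ hO
    have hcb := QCoh.isCoh_cokernel b hJ hO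
    have hξa : genericPoint X ∉ CohB1.support (cokernel a) := fun hm =>
      not_subsingleton_iff_nontrivial.2 (CycBasic.nontrivial_iff_mem_support.2 hm) ta
    have hξb : genericPoint X ∉ CohB1.support (cokernel b) := fun hm =>
      not_subsingleton_iff_nontrivial.2 (CycBasic.nontrivial_iff_mem_support.2 hm) tb
    let S := (finite_one hca hξa).toFinset ∪ (finite_one hcb hξb).toFinset ∪ D.support
    have hS1 : ∀ x ∈ S, One x := fun x hx => by
      simp only [S, Finset.mem_union, Set.Finite.mem_toFinset] at hx
      rcases hx with (h | h) | h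
      · exact h.2
      · exact h.2
      · exact hD x h
    have ea := clSub_sub_mem _ hca hξa S (fun x h1 h2 => by
      simp only [S, Finset.mem_union, Set.Finite.mem_toFinset]
      exact Or.inl (Or.inl ⟨h1, h2⟩)) hS1
    have eb := clSub_sub_mem _ hcb hξb S (fun x h1 h2 => by
      simp only [S, Finset.mem_union, Set.Finite.mem_toFinset]
      exact Or.inl (Or.inr ⟨h1, h2⟩)) hS1
    have hcl : KZero.clSub (cohQ X) (cokernel a) = KZero.clSub (cohQ X) (cokernel b) := by
      have h1 := K0Sub.clSub_add (P := cohQ X)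
        (ShortComplex.ShortExact.mk' (ShortComplex.exact_cokernel a) ha inferInstance) hJ hO hca
      have h2 := K0Sub.clSub_add (P := cohQ X)
        (ShortComplex.ShortExact.mk' (ShortComplex.exact_cokernel b) hb inferInstance) hJ hO hcb
      exact add_left_cancel (h1.symm.trans h2)
    have key : (D.sum fun x n => n • cls x) = ∑ x ∈ S, (len x (cokernel b) - len x (cokernel a)) • cls x := by
      rw [Finsupp.sum, ← Finset.sum_subset (s₁ := D.support) (s₂ := S) Finset.subset_union_right]
      · refine Finset.sum_congr rfl fun x hx => ?_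
        rw [hff x (hD x hx), ← hlen x (hD x hx)]
        rfl
      · intro x hxS hxD
        rw [show len x (cokernel b) - len x (cokernel a) = D x from
          (hlen x (hS1 x hxS)).trans (hff x (hS1 x hxS)).symm, Finsupp.notMem_support_iff.1 hxD, zero_smul]
    have h := sub_mem ea eb
    rw [hcl, sub_sub_sub_cancel_left, ← Finset.sum_sub_distrib] at h
    rw [key]
    convert h using 1
    exact Finset.sum_congr rfl fun x _ => sub_smul _ _ _

end GrothLib.WeilK17

end
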