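import Groth.Agent.Lib.PBDeg17.DivClass

/-!
# The divisor class of a coherent module on an integral scheme, along the points of codimension one
-/

set_option autoImplicit false
set_option linter.style.haveILetI false
set_option linter.unusedVariables false
set_option linter.unusedSectionVars false

universe u

open CategoryTheory CategoryTheory.Limits AlgebraicGeometry

noncomputable section

namespace GrothLib.WeilK17

open GrothLib GrothLib.PBDeg GrothLib.PBDeg.KPhi

variable {X : Scheme.{u}} [IsIntegral X]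

open Classical in
/-- One at the generic point, zero elsewhere. -/
def lev (z : X) : ℤ := if z = genericPoint X then 1 else 0

/-- The generic point above `x`. -/
abbrev gn (x : X) : Gens (lev (X := X)) 0 x :=
  ⟨{genericPoint X}, fun z hz => by
    obtain rfl := Finset.mem_singleton.1 hz
    exact ⟨genericPoint_specializes x, by simp [lev]⟩⟩

/-- The generic point as a point above `x`. -/
abbrev pt (x : X) : Pt (gn x) := ⟨genericPoint X, Finset.mem_singleton_self _⟩

instance (priority := 100) genAlg (x : X) : Algebra (X.presheaf.stalk x) (X.presheaf.stalk (genericPoint X)) :=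
  ptAlg (pt x)

instance (priority := 100) genAlgRes (x : X) : Algebra (X.presheaf.stalk x) (X.residueField (genericPoint X)) :=
  ptAlgRes (pt x)

instance (priority := 100) genTower (x : X) : IsScalarTower (X.presheaf.stalk x) (X.presheaf.stalk (genericPoint X))
    (X.residueField (genericPoint X)) := ptTower (pt x)

/-- The points of codimension one. -/
def One (x : X) : Prop := ringKrullDim (X.presheaf.stalk x) = 1

theorem eq_generic_of_specializes {z : X} (h : z ⤳ genericPoint X) : z = genericPoint X :=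
  (h.antisymm (genericPoint_specializes z)).eq

theorem eq_generic {x z : X} (hx : One x) (h : z ⤳ x) (hne : z ≠ x) : z = genericPoint X := by
  rw [One, ringKrullDim_stalk_eq_coheight] at hx
  have hc : Order.coheight x = 1 := by exact_mod_cast hx
  have hlt : x < z := lt_of_le_not_ge h fun h' => hne (h.antisymm h').eq
  have h1 := Order.coheight_strictAnti hlt ((Order.coheight_anti hlt.le).trans_lt (by rw [hc]; exact ENat.one_lt_top))
  rw [hc, Order.lt_one_iff] at h1
  exact eq_generic_of_specializes ((Order.coheight_eq_zero.1 h1) (genericPoint_specializes z))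

variable [IsLocallyNoetherian X]

theorem krullDimLE_locQuot {x : X} (hx : One x) (h : genericPoint X ⤳ x) :
    Ring.KrullDimLE 1 (Cyc.LocQuot x (genericPoint X) h) :=
  Ring.krullDimLE_iff.2 ((ringKrullDim_quotient_le _).trans (le_of_eq hx))

theorem cx {x : X} (hx : One x) :
    Lat.Cx (X.presheaf.stalk x) (X.residueField (pt x).val) := by
  refine ⟨inferInstance, fun c => ?_, fun a ha => ?_⟩
  · obtain ⟨a, b, hb, he⟩ := CycDiv.exists_frac (pt x).sp c
    exact ⟨a, b, hb, by rw [Algebra.smul_def, mul_comm]; exact he⟩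
  · rw [length_quot_eq_ord]
    haveI : IsNoetherianRing (Cyc.LocQuot x (pt x).val (pt x).sp) :=
      isNoetherianRing_of_surjective _ _ (Ideal.Quotient.mk _) Ideal.Quotient.mk_surjective
    haveI : Ring.KrullDimLE 1 (Cyc.LocQuot x (pt x).val (pt x).sp) := krullDimLE_locQuot hx _
    exact Ring.ord_ne_top (mem_nonZeroDivisors_of_ne_zero fun h => ha (Ideal.Quotient.eq_zero_iff_mem.1 h))

open CycDiv in
theorem ordI_eq_ordAt {x : X} (hx : One x) {f : X.residueField (pt x).val} (hf : f ≠ 0) :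
    Lat.ordI (X.presheaf.stalk x) f = Cyc.ordAt x (genericPoint X) (genericPoint_specializes x) f := by
  have hC := cx hx
  let h := genericPoint_specializes x
  obtain ⟨a, b, hb, he⟩ := exists_frac (pt x).sp f
  have hb0 : algebraMap (X.presheaf.stalk x) (X.residueField (pt x).val) b ≠ 0 := hb
  have he' : f * algebraMap (X.presheaf.stalk x) (X.residueField (pt x).val) b =
      algebraMap (X.presheaf.stalk x) (X.residueField (pt x).val) a := he
  have ha0 : algebraMap (X.presheaf.stalk x) (X.residueField (pt x).val) a ≠ 0 := he' ▸ mul_ne_zero hf hb0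
  have h1 := Lat.ordI_mul hC hf hb0
  rw [he', Lat.ordI_algebraMap hC ha0, Lat.ordI_algebraMap hC hb0, length_quot_eq_ord,
    length_quot_eq_ord] at h1
  have hN : IsNoetherianRing (Cyc.LocQuot x (genericPoint X) h) :=
    isNoetherianRing_of_surjective _ _ (Ideal.Quotient.mk _) Ideal.Quotient.mk_surjective
  have hK := krullDimLE_locQuot hx h
  have hfrac := isFractionRing_locQuot h
  have ha' : Ideal.Quotient.mk (primeOf h) a ≠ 0 := fun e => ha0 (Ideal.Quotient.eq_zero_iff_mem.1 e)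
  have hb' : Ideal.Quotient.mk (primeOf h) b ≠ 0 := fun e => hb (Ideal.Quotient.eq_zero_iff_mem.1 e)
  have hgdiv : f = algebraMap (Cyc.LocQuot x (genericPoint X) h) (X.residueField (genericPoint X)) (Ideal.Quotient.mk _ a) /
      algebraMap (Cyc.LocQuot x (genericPoint X) h) (X.residueField (genericPoint X)) (Ideal.Quotient.mk _ b) := by
    rw [algebraMap_mk, algebraMap_mk, eq_div_iff hb]
    exact he
  have hma := mem_nonZeroDivisors_of_ne_zero ha'
  have hmb := mem_nonZeroDivisors_of_ne_zero hb'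
  have h2 : Cyc.ordAt x (genericPoint X) h f =
      ((Ring.ord (Cyc.LocQuot x (genericPoint X) h) (Ideal.Quotient.mk _ a)).toNat : ℤ) -
        ((Ring.ord (Cyc.LocQuot x (genericPoint X) h) (Ideal.Quotient.mk _ b)).toNat : ℤ) := by
    rw [Cyc.ordAt, CycAlg.ordFrac, dif_pos ⟨hN, hK, inferInstance, hfrac⟩, hgdiv, map_div₀,
      Ring.ordFrac_eq_ord _ ha', Ring.ordFrac_eq_ord _ hb',
      Ring.ordMonoidWithZeroHom_eq_coe _ hma (ENat.natCast_toNat (Ring.ord_ne_top hma)).symm,
      Ring.ordMonoidWithZeroHom_eq_coe _ hmb (ENat.natCast_toNat (Ring.ord_ne_top hmb)).symm, ← WithZero.coe_div]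
    rfl
  show _ = Cyc.ordAt x (genericPoint X) h f
  rw [h2]
  have ea : Ring.ord (Cyc.LocQuot x (pt x).val (pt x).sp) (Ideal.Quotient.mk _ a) =
      Ring.ord (Cyc.LocQuot x (genericPoint X) h) (Ideal.Quotient.mk _ a) := rfl
  have eb : Ring.ord (Cyc.LocQuot x (pt x).val (pt x).sp) (Ideal.Quotient.mk _ b) =
      Ring.ord (Cyc.LocQuot x (genericPoint X) h) (Ideal.Quotient.mk _ b) := rfl
  rw [ea, eb] at h1
  omega

/-- The principal divisor functions, on the points of codimension one. -/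
def princ : AddSubgroup (X → ℤ) where
  carrier := {D | ∃ f : X.residueField (genericPoint X), f ≠ 0 ∧ ∀ x, One x →
    D x = Cyc.ordAt x (genericPoint X) (genericPoint_specializes x) f}
  zero_mem' := ⟨1, one_ne_zero, fun x hx => by
    rw [← ordI_eq_ordAt hx (f := (1 : X.residueField (pt x).val)) one_ne_zero]
    exact (Lat.ordI_one (cx hx)).symm⟩
  add_mem' := by
    rintro D E ⟨f, hf, hD⟩ ⟨g, hg, hE⟩
    refine ⟨f * g, mul_ne_zero hf hg, fun x hx => ?_⟩
    rw [Pi.add_apply, hD x hx, hE x hx, ← ordI_eq_ordAt hx hf, ← ordI_eq_ordAt hx hg,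
      ← ordI_eq_ordAt hx (mul_ne_zero hf hg)]
    exact (Lat.ordI_mul (cx hx) hf hg).symm
  neg_mem' := by
    rintro D ⟨f, hf, hD⟩
    refine ⟨f⁻¹, inv_ne_zero hf, fun x hx => ?_⟩
    rw [Pi.neg_apply, hD x hx, ← ordI_eq_ordAt hx hf, ← ordI_eq_ordAt hx (inv_ne_zero hf)]
    have h := Lat.ordI_mul (A := X.presheaf.stalk x) (K := X.residueField (pt x).val) (cx hx) hf (inv_ne_zero hf)
    rw [show (f * f⁻¹ : X.residueField (pt x).val) = 1 from mul_inv_cancel₀ hf, Lat.ordI_one (cx hx)] at h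
    omega

theorem length_generic_lt_top {F : X.Modules} (hF : Coh.IsCoh F) :
    Module.length (X.presheaf.stalk (genericPoint X)) (stk F (genericPoint X)) < ⊤ :=
  CycBasic.length_lt_top_of_maximal hF fun y _ h => eq_generic_of_specializes h

/-- A marking of the generic stalk. -/
abbrev GMark (F : X.Modules) : Type (u + 1) :=
  Lat.Mark (X.presheaf.stalk (genericPoint X)) (X.residueField (genericPoint X)) (stk F (genericPoint X))

theorem nonempty_gmark {F : X.Modules} (hF : Coh.IsCoh F) : Nonempty (GMark F) := by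
  obtain ⟨n, hn⟩ := ENat.ne_top_iff_exists.1 (length_generic_lt_top hF).ne
  exact Lat.exists_mark (residue_surj (genericPoint X)) n _ hn.ge

/-- The divisor of a coherent module with a marking. -/
def dvs (F : X.Modules) (m : GMark F) (x : X) : ℤ :=
  ((Module.length (X.presheaf.stalk x) (LinearMap.ker (specLin F (pt x)))).toNat : ℤ) -
    Lat.inv (X.presheaf.stalk x) (W := stk F (pt x).val) m (R F (pt x))

theorem finite_ker {F : X.Modules} (hF : Coh.IsCoh F) {x : X} (hx : One x) :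
    Module.length (X.presheaf.stalk x) (LinearMap.ker (specLin F (pt x))) ≠ ⊤ := by
  haveI := hF.1
  haveI : Module.Finite (X.presheaf.stalk x) (stk F x) := QuasiFlat.finite_stalk F hF x
  refine length_ne_top fun z hz hne m => ?_
  obtain rfl := eq_generic hx hz hne
  obtain ⟨s, hs, he⟩ := exists_smul_eq_zero F hz (m : stk F x) m.2
  exact ⟨s, hs, Subtype.ext he⟩

theorem dvs_torsion {F : X.Modules} (m : GMark F) (h : Subsingleton (stk F (genericPoint X))) (x : X) :
    dvs F m x = ((Module.length (X.presheaf.stalk x) (stk F x)).toNat : ℤ) := by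
  haveI : Subsingleton (stk F (pt x).val) := h
  rw [dvs, Lat.inv_subsingleton (W := stk F (pt x).val) m h,
    show LinearMap.ker (specLin F (pt x)) = ⊤ from LinearMap.ker_eq_top.2 (Subsingleton.elim _ _),
    Module.length_top, sub_zero]

theorem dvs_sub_mem {F : X.Modules} (hF : Coh.IsCoh F) (m m' : GMark F) : dvs F m - dvs F m' ∈ princ := by
  obtain ⟨n, hn⟩ := ENat.ne_top_iff_exists.1 (length_generic_lt_top hF).ne
  obtain ⟨f, hf, hff⟩ := Lat.exists_change (residue_surj (genericPoint X)) n _ hn.ge m' m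
  refine ⟨f, hf, fun x hx => ?_⟩
  have h := hff (X.presheaf.stalk x) (cx hx) _ (isLat_R F hF (pt x))
  rw [Pi.sub_apply, ← ordI_eq_ordAt hx hf, dvs, dvs]
  have h' : Lat.inv (X.presheaf.stalk x) (W := stk F (pt x).val) m' (R F (pt x)) =
      Lat.inv (X.presheaf.stalk x) (W := stk F (pt x).val) m (R F (pt x)) +
        Lat.ordI (X.presheaf.stalk x) (f : X.residueField (pt x).val) := h
  omega

theorem exists_dvs_add {T : ShortComplex X.Modules} (hT : T.ShortExact) (h₁ : Coh.IsCoh T.X₁)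
    (h₂ : Coh.IsCoh T.X₂) (h₃ : Coh.IsCoh T.X₃) (m₁ : GMark T.X₁) (m₃ : GMark T.X₃) :
    ∃ m₂ : GMark T.X₂, ∀ x, One x → dvs T.X₂ m₂ x = dvs T.X₁ m₁ x + dvs T.X₃ m₃ x := by
  haveI := hT.mono_f
  haveI := hT.epi_g
  obtain ⟨m₂, hm₂⟩ := Lat.exists_cat m₁ (W := stk T.X₂ (genericPoint X)) (W'' := stk T.X₃ (genericPoint X))
    (stL T.f _) (stL T.g _) (stL_injective T.f _) (stL_surjective T.g _) (stL_exact hT _) m₃
  refine ⟨m₂, fun x hx => ?_⟩
  let A := X.presheaf.stalk x
  let s₁ := specLin T.X₁ (pt x)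
  let s₂ := specLin T.X₂ (pt x)
  let s₃ := specLin T.X₃ (pt x)
  let fG : stk T.X₁ (pt x).val →ₗ[A] stk T.X₂ (pt x).val := (stL T.f (pt x).val).restrictScalars A
  let gG : stk T.X₂ (pt x).val →ₗ[A] stk T.X₃ (pt x).val := (stL T.g (pt x).val).restrictScalars A
  have hnf : ∀ a : stk T.X₁ x, s₂ (stL T.f x a) = fG (s₁ a) := fun a => specHom_natural T.f (pt x).sp a
  have hng : ∀ a : stk T.X₂ x, s₃ (stL T.g x a) = gG (s₂ a) := fun a => specHom_natural T.g (pt x).sp a
  let R₁ := R T.X₁ (pt x)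
  let R₂ := R T.X₂ (pt x)
  let R₃ := R T.X₃ (pt x)
  have hR₁ : R₁ = LinearMap.range s₁ := rfl
  have hR₂ : R₂ = LinearMap.range s₂ := rfl
  have hR₃ : R₃ = LinearMap.range s₃ := rfl
  let Rt := R₂.comap fG
  have hle : R₁ ≤ Rt := by
    rintro _ ⟨a, rfl⟩
    exact ⟨stL T.f x a, hnf a⟩
  have hq : ∀ w ∈ R₂, gG w ∈ R₃ := by
    rintro _ ⟨a, rfl⟩
    exact ⟨stL T.g x a, hng a⟩
  have hR'' : R₂.map gG = R₃ := by
    refine le_antisymm (by rintro _ ⟨w, hw, rfl⟩; exact hq w hw) ?_
    rintro _ ⟨b, rfl⟩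
    obtain ⟨a, rfl⟩ := stL_surjective T.g x b
    exact ⟨_, ⟨a, rfl⟩, (hng a).symm⟩
  let μ₁ : stk T.X₁ x →ₗ[A] ↥Rt := s₁.codRestrict Rt fun a => hle ⟨a, rfl⟩
  let μ₂ : stk T.X₂ x →ₗ[A] ↥R₂ := s₂.codRestrict R₂ fun a => ⟨a, rfl⟩
  let μ₃ : stk T.X₃ x →ₗ[A] ↥R₃ := s₃.codRestrict R₃ fun a => ⟨a, rfl⟩
  let j : ↥Rt →ₗ[A] ↥R₂ := fG.restrict fun w hw => hw
  let q : ↥R₂ →ₗ[A] ↥R₃ := gG.restrict hq
  have hqs : Function.Surjective q := fun v => by
    obtain ⟨w, hw, he⟩ : (v : stk T.X₃ (pt x).val) ∈ R₂.map gG := hR''.symm ▸ v.2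
    exact ⟨⟨w, hw⟩, Subtype.ext he⟩
  have hjq : Function.Exact j q := fun v => by
    constructor
    · intro hv
      obtain ⟨w, hw⟩ := (stL_exact hT (pt x).val (v : stk T.X₂ (pt x).val)).1 (congrArg Subtype.val hv)
      exact ⟨⟨w, show fG w ∈ R₂ by rw [show fG w = (v : stk T.X₂ (pt x).val) from hw]; exact v.2⟩,
        Subtype.ext hw⟩
    · rintro ⟨w, rfl⟩
      exact Subtype.ext ((stL_exact hT (pt x).val _).2 ⟨(w : stk T.X₁ (pt x).val), rfl⟩)
  have hchi := Lat.chi_add μ₁ μ₂ μ₃ (stL T.f x) (stL T.g x) j q (stL_injective T.f x)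
    (stL_surjective T.g x) (stL_exact hT x)
    (fun v w e => Subtype.ext (stL_injective T.f (pt x).val (congrArg Subtype.val e))) hqs hjq
    (fun a => Subtype.ext (hnf a)) (fun a => Subtype.ext (hng a))
  have hk1 : LinearMap.ker μ₁ = LinearMap.ker s₁ := LinearMap.ker_codRestrict _ _ _
  have hk2 : LinearMap.ker μ₂ = LinearMap.ker s₂ := LinearMap.ker_codRestrict _ _ _
  have hk3 : LinearMap.ker μ₃ = LinearMap.ker s₃ := LinearMap.ker_codRestrict _ _ _
  have hc1 : Module.length A (↥Rt ⧸ LinearMap.range μ₁) = CycDetL.relLen R₁ Rt := by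
    refine (Lat.relLen_eq_length_quot Rt.subtype R₁ Rt _ (fun v => ?_) (Submodule.range_subtype _)).symm
    exact ⟨fun ⟨a, ha⟩ => ⟨a, Subtype.ext ha⟩, fun ⟨a, ha⟩ => ⟨a, congrArg Subtype.val ha⟩⟩
  have hc0 : ∀ {M : Type u} [AddCommGroup M] [Module A M] {P : Submodule A M} {N : Type u} [AddCommGroup N]
      [Module A N] (μ : N →ₗ[A] ↥P), Function.Surjective μ → Module.length A (↥P ⧸ LinearMap.range μ) = 0 := by
    intro M _ _ P N _ _ μ hμ
    rw [Module.length_eq_zero_iff]
    exact Submodule.Quotient.subsingleton_iff.2 (LinearMap.range_eq_top.2 hμ)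
  rw [hk1, hk2, hk3, hc1, hc0 μ₂ (by rintro ⟨_, a, rfl⟩; exact ⟨a, rfl⟩),
    hc0 μ₃ (by rintro ⟨_, a, rfl⟩; exact ⟨a, rfl⟩), add_zero, add_zero] at hchi
  have hlat1 : Lat.IsLat (X.residueField (pt x).val) R₁ := isLat_R _ h₁ (pt x)
  obtain ⟨hL, hmono⟩ := Lat.inv_mono (cx hx) (W := stk T.X₁ (pt x).val) m₁ hlat1
    (hlat1.mono (Lat.fg_comap (cx hx) fG (stL_injective T.f (pt x).val) (isLat_R T.X₂ h₂ (pt x)).1) hle) hle
  have hadd : Lat.inv A (W := stk T.X₂ (pt x).val) m₂ R₂ =
      Lat.inv A (W := stk T.X₁ (pt x).val) m₁ Rt + Lat.inv A (W := stk T.X₃ (pt x).val) m₃ (R₂.map gG) :=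
    hm₂ A R₂
  rw [hR''] at hadd
  have e := congrArg ENat.toNat hchi
  rw [ENat.toNat_add (finite_ker h₂ hx) hL, ENat.toNat_add (finite_ker h₁ hx) (finite_ker h₃ hx)] at e
  simp only [dvs]
  simp only [A, R₁, R₂, R₃, Rt, s₁, s₂, s₃, fG, gG] at e hmono hadd ⊢
  omega

open Classical in
/-- The divisor class homomorphism. -/
theorem exists_hom :
    ∃ Φ : KZero.K0sub (fun M : X.Modules => Coh.IsCoh M) →+ (X → ℤ) ⧸ princ (X := X),
      ∀ F : X.Modules, Coh.IsCoh F → Subsingleton (stk F (genericPoint X)) →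
        Φ (KZero.clSub (fun M : X.Modules => Coh.IsCoh M) F) = QuotientAddGroup.mk fun x =>
          ((Module.length (X.presheaf.stalk x) (stk F x)).toNat : ℤ) := by
  let φ : X.Modules → (X → ℤ) ⧸ princ (X := X) := fun F =>
    if h : Coh.IsCoh F then QuotientAddGroup.mk (dvs F (nonempty_gmark h).some) else 0
  obtain ⟨Φ, hΦ⟩ := K0Sub.exists_lift (P := fun M : X.Modules => Coh.IsCoh M) φ fun T hT h₁ h₂ h₃ => by
    simp only [φ]
    rw [dif_pos h₁, dif_pos h₂, dif_pos h₃, ← QuotientAddGroup.mk_add]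
    obtain ⟨m, hm⟩ := exists_dvs_add hT h₁ h₂ h₃ (nonempty_gmark h₁).some (nonempty_gmark h₃).some
    rw [QuotientAddGroup.eq, neg_add_eq_sub]
    obtain ⟨f, hf, hff⟩ := dvs_sub_mem h₂ m (nonempty_gmark h₂).some
    refine ⟨f, hf, fun x hx => ?_⟩
    rw [← hff x hx, Pi.sub_apply, Pi.sub_apply, Pi.add_apply, hm x hx]
  refine ⟨Φ, fun F hF h => ?_⟩
  rw [hΦ F hF]
  simp only [φ]
  rw [dif_pos hF]
  exact congrArg _ (funext fun x => dvs_torsion _ h x)

end GrothLib.WeilK17

end
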