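import Groth.Agent.Lib.WeilK17.Order
import Groth.Agent.Lib.HomSh.Coherent
import Groth.Agent.Lib.WeakAss.Structure
import Groth.Agent.Lib.QCoh.DevissageSummands

/-!
# Principal divisors as differences of coherent modules
-/

set_option autoImplicit false
set_option linter.style.haveILetI false
set_option linter.unusedVariables false
set_option linter.unusedSectionVars false

universe u

open CategoryTheory CategoryTheory.Limits AlgebraicGeometry

noncomputable section

namespace GrothLib.WeilK17

open GrothLib GrothLib.PBDeg GrothLib.PBDeg.KPhi GrothLib.PBDeg.K0Cyc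

attribute [local instance] Abelian.hasFiniteBiproducts

variable {X : Scheme.{u}} [IsIntegral X] [IsLocallyNoetherian X]

theorem ne_zero_of_smul {M : X.Modules} {V : X.Opens} (c : Γ(X, V)) (s : Γ(M, V)) (h : c • s ≠ 0) : s ≠ 0 :=
  fun e => h (by rw [e, smul_zero])

/-- The structure module has no sections killed at the generic point. -/
theorem structure_specHom_eq_zero {x : X} (e : stk (Coh.structureModule X) x)
    (h : specHom (Coh.structureModule X) (genericPoint_specializes x) e = 0) : e = 0 := by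
  haveI := WeakAss.isQuasicoherent_structureModule (X := X)
  obtain ⟨_, ⟨V, hV, rfl⟩, hxV, -⟩ :=
    X.isBasis_affineOpens.exists_subset_of_mem_open (Set.mem_univ x) isOpen_univ
  haveI : Nonempty V := ⟨⟨x, hxV⟩⟩
  obtain ⟨c, t, hc, ht⟩ := WeakAss.exists_smul_eq_germ (F := Coh.structureModule X) hV hxV e
  have hg := (genericPoint_specializes x).mem_open V.2 hxV
  have hz : (Coh.structureModule X).presheaf.germ V (genericPoint X) hg t = 0 := by
    refine (specHom_germ _ (genericPoint_specializes x) V hxV t).symm.trans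
      ((congrArg (specHom _ (genericPoint_specializes x)) ht.symm).trans ?_)
    exact (specHom_smul _ (genericPoint_specializes x) _ e).trans
      ((congrArg (_ • ·) h).trans (smul_zero _))
  obtain ⟨d, hd, hdt⟩ := (WeakAss.germ_eq_zero_iff hV hg t).1 hz
  obtain ⟨t', rfl⟩ : ∃ t' : Γ(X, V), WeakAss.toModSec t' = t := ⟨t, rfl⟩
  have hd0 : d ≠ 0 := fun e => hd (e ▸ zero_mem _)
  have hdt' : d * (t' : Γ(X, V)) = 0 := hdt
  have ht0 : (t' : Γ(X, V)) = 0 := (mul_eq_zero.1 hdt').resolve_left hd0
  have hu : IsUnit (X.presheaf.germ V x hxV c) :=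
    (Scheme.mem_basicOpen _ c x hxV).mp (WeakAss.notMem_primeAt_iff.mp hc)
  have h0 : X.presheaf.germ V x hxV c • e = 0 := by
    refine ht.trans ?_
    rw [ht0]
    exact map_zero _
  exact hu.smul_eq_zero.1 h0

instance genericField : Field (X.presheaf.stalk (genericPoint X)) := inferInstanceAs (Field X.functionField)

theorem maximalIdeal_generic_eq_zero {r : X.presheaf.stalk (genericPoint X)}
    (hr : r ∈ IsLocalRing.maximalIdeal (X.presheaf.stalk (genericPoint X))) : r = 0 :=
  by_contra fun h => (IsLocalRing.mem_maximalIdeal r).1 hr (isUnit_iff_ne_zero.2 h)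

/-- The generic stalk of the structure module is the residue field. -/
theorem nonempty_genEquiv : Nonempty (stk (Coh.structureModule X) (genericPoint X)
    ≃ₗ[X.presheaf.stalk (genericPoint X)] X.residueField (genericPoint X)) := by
  haveI := WeakAss.isQuasicoherent_structureModule (X := X)
  let one : Γ(Coh.structureModule X, ⊤) := WeakAss.toModSec (1 : Γ(X, ⊤))
  let o : stk (Coh.structureModule X) (genericPoint X) :=
    (Coh.structureModule X).presheaf.germ ⊤ (genericPoint X) trivial one
  let φ := LinearMap.toSpanSingleton (X.presheaf.stalk (genericPoint X)) _ o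
  have ho : o ≠ 0 := by
    intro h0
    obtain ⟨_, ⟨V, hV, rfl⟩, hxV, -⟩ :=
      X.isBasis_affineOpens.exists_subset_of_mem_open (Set.mem_univ (genericPoint X)) isOpen_univ
    haveI : Nonempty V := ⟨⟨_, hxV⟩⟩
    have h1 : (Coh.structureModule X).presheaf.germ V (genericPoint X) hxV
        (WeakAss.toModSec (1 : Γ(X, V))) = 0 := by
      refine Eq.trans ?_ h0
      refine Eq.trans ?_ (QCoh.germ_map (Coh.structureModule X) (homOfLE (le_top : V ≤ ⊤)) hxV one)
      congr 1
      exact (map_one (X.presheaf.map (homOfLE (le_top : V ≤ ⊤)).op).hom).symm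
    obtain ⟨d, hd, hdt⟩ := (WeakAss.germ_eq_zero_iff hV hxV _).1 h1
    have hd1 : d * (1 : Γ(X, V)) = 0 := hdt
    rw [mul_one] at hd1
    exact hd (hd1 ▸ zero_mem _)
  have hφ : Function.Bijective φ := by
    refine ⟨(injective_iff_map_eq_zero φ).2 fun r hr => by_contra fun h => ho ?_, fun e => ?_⟩
    · exact (isUnit_iff_ne_zero.2 h).smul_eq_zero.1 hr
    · obtain ⟨U, hU, s, rfl⟩ := TopCat.Presheaf.exists_germ_eq (Coh.structureModule X).presheaf e
      obtain ⟨s', rfl⟩ : ∃ s' : Γ(X, U), WeakAss.toModSec s' = s := ⟨s, rfl⟩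
      refine ⟨X.presheaf.germ U _ hU s', ?_⟩
      have h1 : o = (Coh.structureModule X).presheaf.germ U (genericPoint X) hU
          (WeakAss.toModSec (1 : Γ(X, U))) := by
        refine (QCoh.germ_map (Coh.structureModule X) (homOfLE (le_top : U ≤ ⊤)) hU one).symm.trans ?_
        congr 1
        exact map_one (X.presheaf.map (homOfLE (le_top : U ≤ ⊤)).op).hom
      show X.presheaf.germ U _ hU s' • o = _
      rw [h1]
      refine (WeakAss.germ_smul (F := Coh.structureModule X) hU s' _).symm.trans ?_
      congr 1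
      show (s' : Γ(X, U)) * 1 = s'
      exact mul_one _
  exact ⟨(LinearEquiv.ofBijective φ hφ).symm.trans (LinearEquiv.ofBijective
    (Algebra.linearMap (X.presheaf.stalk (genericPoint X)) (X.residueField (genericPoint X)))
    ⟨RingHom.injective _, residue_surj (genericPoint X)⟩)⟩

open Classical in
/-- A rational function as a pair of injections into the structure module. -/
theorem exists_pair {f : X.residueField (genericPoint X)} (hf : f ≠ 0) :
    ∃ (J : X.Modules) (a b : J ⟶ Coh.structureModule X), Coh.IsCoh J ∧ Mono a ∧ Mono b ∧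
      Subsingleton (stk (cokernel a) (genericPoint X)) ∧ Subsingleton (stk (cokernel b) (genericPoint X)) ∧
      ∀ x, One x →
        ((Module.length (X.presheaf.stalk x) (stk (cokernel b) x)).toNat : ℤ) -
          ((Module.length (X.presheaf.stalk x) (stk (cokernel a) x)).toNat : ℤ) =
            Cyc.ordAt x (genericPoint X) (genericPoint_specializes x) f := by
  let O := Coh.structureModule X
  let ξ := genericPoint X
  obtain ⟨e₀⟩ := nonempty_genEquiv (X := X)
  let mf : X.residueField ξ ≃ₗ[X.presheaf.stalk ξ] X.residueField ξ :=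
    LinearEquiv.ofBijective (LinearMap.mulLeft (X.presheaf.stalk ξ) f)
      ⟨mul_right_injective₀ hf, fun y => ⟨f⁻¹ * y, mul_inv_cancel_left₀ hf y⟩⟩
  let φ : stk O ξ ≃ₗ[X.presheaf.stalk ξ] stk O ξ := e₀.trans (mf.trans e₀.symm)
  let M := O ⊞ O
  have hO : Coh.IsCoh O := HomSh.isCoh_structureModule X
  have hM : Coh.IsCoh M := QCoh.isCoh_biprod' hO hO
  haveI := hM.1
  let V₀ : Submodule (X.presheaf.stalk ξ) (stk M ξ) :=
    LinearMap.ker (φ.toLinearMap.comp (stL (biprod.fst : M ⟶ O) ξ) - stL (biprod.snd : M ⟶ O) ξ)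
  let W : ∀ z : X, Submodule (X.presheaf.stalk z) (stk M z) := fun z => if h : ξ = z then h ▸ V₀ else ⊤
  have hWξ : W ξ = V₀ := by simp [W]
  have hWtop : ∀ z, ξ ≠ z → W z = ⊤ := fun z hz => dif_neg hz
  have hgood : Good M W := fun U _ => ⟨1, fun z _ r hr e => by
    by_cases hz : ξ = z
    · subst hz
      rw [pow_one, maximalIdeal_generic_eq_zero hr, zero_smul]
      exact zero_mem _
    · rw [hWtop z hz]; trivial⟩
  have hwlf : WLF M W := fun p => ⟨⊤, trivial, (Set.finite_singleton ξ).subset fun z hz => by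
    by_contra hne
    exact hz.2 (hWtop z fun e => hne e.symm)⟩
  have hrange : LinearMap.range (stL (gsub M W).ι ξ) = V₀ := by
    refine le_antisymm ?_ fun e he => gsub_stalk_lift M W hwlf ξ e fun y hy => ?_
    · rintro _ ⟨e, rfl⟩
      have := gsub_stalk_mem M W ξ e (specializes_rfl : ξ ⤳ ξ)
      rwa [specHom_refl, hWξ] at this
    · obtain rfl := eq_generic_of_specializes hy
      rw [specHom_refl, hWξ]
      exact he
  let ι := (gsub M W).ι
  have hrel : ∀ e, φ (stL (ι ≫ biprod.fst) ξ e) = stL (ι ≫ biprod.snd) ξ e := by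
    intro e
    have hmem : stL ι ξ e ∈ V₀ := hrange.le ⟨e, rfl⟩
    have := LinearMap.mem_ker.1 hmem
    rw [LinearMap.sub_apply, sub_eq_zero, LinearMap.comp_apply] at this
    rw [stL_comp, stL_comp]
    exact this
  have hfst : Function.Surjective (stL (ι ≫ biprod.fst) ξ) := by
    intro g
    let w : stk M ξ := stL (biprod.inl : O ⟶ M) ξ g + stL (biprod.inr : O ⟶ M) ξ (φ g)
    have w1 : stL (biprod.fst : M ⟶ O) ξ w = g := by
      rw [map_add, ← stL_comp, ← stL_comp, biprod.inl_fst, biprod.inr_fst, stL_id, stL_zero, add_zero]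
    have w2 : stL (biprod.snd : M ⟶ O) ξ w = φ g := by
      rw [map_add, ← stL_comp, ← stL_comp, biprod.inl_snd, biprod.inr_snd, stL_id, stL_zero, zero_add]
    obtain ⟨e, he⟩ := hrange.symm.le (show w ∈ V₀ from by
      rw [LinearMap.mem_ker, LinearMap.sub_apply, LinearMap.comp_apply, w1, w2]; exact sub_self _)
    refine ⟨e, ?_⟩
    rw [stL_comp]
    exact (congrArg _ he).trans w1
  have hsnd : Function.Surjective (stL (ι ≫ biprod.snd) ξ) := fun g => by
    obtain ⟨e, he⟩ := hfst (φ.symm g)
    exact ⟨e, by rw [← hrel, he, φ.apply_symm_apply]⟩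
  have hjoint : ∀ (x : X) e, stL (ι ≫ biprod.fst) x e = 0 → stL (ι ≫ biprod.snd) x e = 0 → e = 0 := by
    intro x e h1 h2
    rw [stL_comp] at h1 h2
    exact (injective_iff_map_eq_zero (stL ι x)).1 (stL_injective ι x) e (stL_biprod_ext x _ h1 h2)
  have hnat : ∀ {A B : X.Modules} (g : A ⟶ B) (x : X) (e : stk A x),
      specHom B (genericPoint_specializes x) (stL g x e) = stL g ξ (specHom A (genericPoint_specializes x) e) :=
    fun g x e => specHom_natural g _ e
  have hma : Mono (ι ≫ biprod.fst) := (OX.mono_iff _).2 fun x => (ModuleCat.mono_iff_injective _).2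
    ((injective_iff_map_eq_zero (stL (ι ≫ biprod.fst) x)).2 fun e he => hjoint x e he
      (structure_specHom_eq_zero _ (by rw [hnat, ← hrel, ← hnat, he, map_zero, map_zero])))
  have hmb : Mono (ι ≫ biprod.snd) := (OX.mono_iff _).2 fun x => (ModuleCat.mono_iff_injective _).2
    ((injective_iff_map_eq_zero (stL (ι ≫ biprod.snd) x)).2 fun e he => hjoint x e
      (structure_specHom_eq_zero _ (φ.injective (by rw [hnat, hrel, ← hnat, he, map_zero, map_zero]))) he)
  have hJ : Coh.IsCoh (gsub M W).obj := gsub_isCoh M hM W hgood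
  have hsub : ∀ c : (gsub M W).obj ⟶ O, Function.Surjective (stL c ξ) →
      Subsingleton (stk (cokernel c) ξ) := fun c hc =>
    QCoh.stalk_subsingleton_of_notMem (QCoh.notMem_support_cokernel_of_surjective c hc)
  refine ⟨_, ι ≫ biprod.fst, ι ≫ biprod.snd, hJ, hma, hmb, hsub _ hfst, hsub _ hsnd, fun x hx => ?_⟩
  have hC := cx hx
  let A := X.presheaf.stalk x
  let eA : stk O ξ →ₗ[A] X.residueField ξ := (e₀.toLinearMap : _ →ₗ[X.presheaf.stalk ξ] _).restrictScalars A
  let sp : stk O x →ₗ[A] X.residueField ξ := eA.comp (specLin O (pt x))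
  have hspinj : Function.Injective sp := (injective_iff_map_eq_zero sp).2 fun e he =>
    structure_specHom_eq_zero e ((injective_iff_map_eq_zero e₀).1 e₀.injective _ he)
  let L : ((gsub M W).obj ⟶ O) → Submodule A (X.residueField ξ) := fun c =>
    LinearMap.range (sp.comp (stL c x))
  have hlat : ∀ c : (gsub M W).obj ⟶ O, Function.Surjective (stL c ξ) →
      Lat.IsLat (X.residueField ξ) (L c) := by
    intro c hc
    refine ⟨by
      haveI : Module.Finite A (stk (gsub M W).obj x) := QuasiFlat.finite_stalk _ hJ x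
      show (LinearMap.range _).FG
      rw [← Submodule.map_top]
      exact Module.Finite.fg_top.map _, fun w => ?_⟩
    obtain ⟨v, hv⟩ := hc (e₀.symm w)
    haveI := hJ.1
    obtain ⟨s, m, hs, he⟩ := exists_specHom_eq (gsub M W).obj (genericPoint_specializes x) v
    refine ⟨s, hs, m, ?_⟩
    show e₀ (specHom O _ (stL c x m)) = s • w
    rw [hnat c x m, ← he]
    refine (congrArg e₀ ((stL c ξ).map_smul _ v)).trans ((e₀.map_smul _ _).trans ?_)
    rw [hv, e₀.apply_symm_apply]
    exact algebraMap_smul (X.presheaf.stalk ξ) s w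
  have hfg : (LinearMap.range sp).FG := by
    haveI : Module.Finite A (stk O x) := QuasiFlat.finite_stalk O hO x
    rw [← Submodule.map_top]
    exact Module.Finite.fg_top.map _
  have hlen : ∀ c : (gsub M W).obj ⟶ O, Function.Surjective (stL c ξ) →
      (((Module.length A (stk (cokernel c) x)).toNat : ℕ) : ℤ) =
        Lat.idx (L c) - Lat.idx (LinearMap.range sp) := by
    intro c hc
    have hle : L c ≤ LinearMap.range sp := LinearMap.range_comp_le_range _ _
    have h := Lat.idx_mono hC (hlat c hc) ((hlat c hc).mono hfg hle) hle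
    rw [Lat.relLen_eq_length_quot sp (L c) _ (LinearMap.range (stL c x)) (fun t => ?_) rfl,
      ← length_cokernel_stalk] at h
    · exact eq_sub_of_add_eq' h.symm
    · exact ⟨fun ⟨m, hm⟩ => ⟨m, hspinj hm⟩, fun ⟨m, hm⟩ => ⟨m, congrArg sp hm⟩⟩
  have hLb : L (ι ≫ biprod.snd) = (L (ι ≫ biprod.fst)).map (Lat.mulMap (A := A) f) := by
    refine Eq.trans (congrArg LinearMap.range ?_) (LinearMap.range_comp _ _)
    refine LinearMap.ext fun m => ?_
    show e₀ (specHom O _ (stL (ι ≫ biprod.snd) x m)) = f * e₀ (specHom O _ (stL (ι ≫ biprod.fst) x m))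
    rw [hnat, hnat, ← hrel]
    exact e₀.apply_symm_apply _
  rw [hlen _ hsnd, hlen _ hfst, hLb, Lat.idx_mul hC (hlat _ hfst) hf, ordI_eq_ordAt hx hf]
  ring

end GrothLib.WeilK17

end
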